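import Groth.Agent.Lib.EffCartier.Comap
import Groth.Agent.Lib.EffCartier.Basic
import Mathlib.AlgebraicGeometry.Morphisms.Flat
import Mathlib.AlgebraicGeometry.Morphisms.Affine
import Mathlib.Algebra.Category.Ring.Constructions
import Mathlib.RingTheory.Localization.BaseChange
import Mathlib.RingTheory.Flat.TorsionFree

/-!
# Closures of closed subschemes of generic fibres over Dedekind domains
-/

universe u

open CategoryTheory CategoryTheory.Limits AlgebraicGeometry

namespace Groth.Agent.GenClosure15

open Groth.Agent.EffCartier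

set_option backward.isDefEq.respectTransparency.types false

/-- The closure of a closed subscheme of the generic fibre of an affine scheme over a Dedekind domain
is flat, has the given generic fibre and is the only such closed subscheme. -/
theorem closure_generic {R K : Type u} [CommRing R] [IsDedekindDomain R] [Field K]
    [Algebra R K] [IsFractionRing R K] {U UK : Scheme.{u}} [IsAffine U]
    (g : U ⟶ Spec (CommRingCat.of R)) {pr : UK ⟶ U} {fK : UK ⟶ Spec (CommRingCat.of K)}
    (sq : IsPullback pr fK g (Spec.map (CommRingCat.ofHom (algebraMap R K))))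
    (I : UK.IdealSheafData) :
    (I.subschemeι ≫ pr).ker.comap pr = I ∧ Flat ((I.subschemeι ≫ pr).ker.subschemeι ≫ g) ∧
      ∀ J' : U.IdealSheafData, Flat (J'.subschemeι ≫ g) → J'.comap pr = I →
        J' = (I.subschemeι ≫ pr).ker := by
  classical
  haveI : IsAffineHom (Spec.map (CommRingCat.ofHom (algebraMap R K))) := inferInstance
  haveI : IsAffineHom pr := MorphismProperty.of_isPullback (P := @IsAffineHom) sq.flip inferInstance
  haveI : IsAffine UK := isAffine_of_isAffineHom pr
  let T : U.affineOpens := ⟨⊤, isAffineOpen_top U⟩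
  let TK : UK.affineOpens := ⟨⊤, isAffineOpen_top UK⟩
  -- the rings
  let σR := (Scheme.ΓSpecIso (CommRingCat.of R)).inv
  let σK := (Scheme.ΓSpecIso (CommRingCat.of K)).inv
  let A := Γ(U, ⊤)
  let B := Γ(UK, ⊤)
  letI : Algebra R A := (σR ≫ g.appTop).hom.toAlgebra
  letI : Algebra A B := pr.appTop.hom.toAlgebra
  letI : Algebra R B := ((algebraMap A B).comp (algebraMap R A)).toAlgebra
  haveI : IsScalarTower R A B := IsScalarTower.of_algebraMap_eq' rfl
  letI : Algebra K B := (σK ≫ fK.appTop).hom.toAlgebra
  have hσ : CommRingCat.ofHom (algebraMap R K) ≫ σK =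
      σR ≫ (Spec.map (CommRingCat.ofHom (algebraMap R K))).appTop :=
    Scheme.ΓSpecIso_inv_naturality (CommRingCat.ofHom (algebraMap R K))
  have hw : g.appTop ≫ pr.appTop =
      (Spec.map (CommRingCat.ofHom (algebraMap R K))).appTop ≫ fK.appTop := by
    rw [← Scheme.Hom.comp_appTop, ← Scheme.Hom.comp_appTop, sq.w]
  haveI : IsScalarTower R K B := IsScalarTower.of_algebraMap_eq fun r => by
    have h : CommRingCat.ofHom (algebraMap R K) ≫ σK ≫ fK.appTop = σR ≫ g.appTop ≫ pr.appTop := by
      rw [reassoc_of% hσ, hw]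
    exact (congr($h r)).symm
  have hpo := (isPushout_appTop_of_isPullback sq).flip
  have hpo' : IsPushout (CommRingCat.ofHom (algebraMap R K)) (CommRingCat.ofHom (algebraMap R A))
      (CommRingCat.ofHom (algebraMap K B)) (CommRingCat.ofHom (algebraMap A B)) :=
    hpo.of_iso (Scheme.ΓSpecIso (CommRingCat.of R)) (Scheme.ΓSpecIso (CommRingCat.of K)) (Iso.refl _) (Iso.refl _)
      (by exact Scheme.ΓSpecIso_naturality (CommRingCat.ofHom (algebraMap R K)))
      (by simp [σR, RingHom.algebraMap_toAlgebra, A])
      (by simp [σK, RingHom.algebraMap_toAlgebra, B])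
      (by simp [RingHom.algebraMap_toAlgebra, A, B])
  haveI : Algebra.IsPushout R K A B := CommRingCat.isPushout_iff_isPushout.mp hpo'
  let M : Submonoid A := Algebra.algebraMapSubmonoid A (nonZeroDivisors R)
  haveI hloc : IsLocalization M B := (Algebra.isLocalization_iff_isPushout (nonZeroDivisors R) K).mpr (Algebra.IsPushout.symm inferInstance)
  -- the ideals
  let IB : Ideal B := I.ideal TK
  have hJ : ∀ x : A, x ∈ (I.subschemeι ≫ pr).ker.ideal T ↔ algebraMap A B x ∈ IB := by
    intro x
    rw [Scheme.Hom.ker_apply, RingHom.mem_ker]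
    show I.subschemeι.app ⊤ (algebraMap A B x) = 0 ↔ _
    rw [← RingHom.mem_ker]
    show algebraMap A B x ∈ RingHom.ker (I.subschemeι.app TK.1).hom ↔ _
    rw [Scheme.IdealSheafData.ker_subschemeι_app]
  let J : Ideal A := (I.subschemeι ≫ pr).ker.ideal T
  have hsat : ∀ (c : R) (x : A), c ≠ 0 → algebraMap R A c • x ∈ J → x ∈ J := by
    intro c x hc hx
    rw [hJ] at hx ⊢
    rw [smul_eq_mul, map_mul] at hx
    exact (Ideal.unit_mul_mem_iff_mem _
      (IsLocalization.map_units B (⟨_, c, mem_nonZeroDivisors_of_ne_zero hc, rfl⟩ : M))).1 hx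
  have hJB : J.map (algebraMap A B) = IB := by
    have h : J = IB.comap (algebraMap A B) := Ideal.ext hJ
    rw [h]; exact IsLocalization.map_comap M B IB
  -- sections of closed subschemes
  have key : ∀ H : U.IdealSheafData, Flat (H.subschemeι ≫ g) ↔
      ∀ (c : R) (x : A), c ≠ 0 → algebraMap R A c • x ∈ H.ideal T → x ∈ H.ideal T := by
    intro H
    let C := Γ(H.subscheme, ⊤)
    let q : A ⟶ C := H.subschemeι.app T.1
    haveI : IsAffine H.subscheme := isAffine_of_isAffineHom H.subschemeι
    letI : Algebra R C := (σR ≫ (H.subschemeι ≫ g).appTop).hom.toAlgebra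
    have hC : ∀ (c : R) (x : A), c • q x = q (algebraMap R A c • x) := fun c x => by
      rw [Algebra.smul_def, smul_eq_mul, map_mul]
      rfl
    have hker : ∀ x : A, q x = 0 ↔ x ∈ H.ideal T := fun x => by
      rw [← H.ker_subschemeι_app T]; rfl
    have hflat : Flat (H.subschemeι ≫ g) ↔ Module.Flat R C := by
      have hbij : Function.Bijective σR.hom :=
        (Scheme.ΓSpecIso (CommRingCat.of R)).symm.commRingCatIsoToRingEquiv.bijective
      rw [HasRingHomProperty.iff_of_isAffine (P := @Flat), ← RingHom.flat_algebraMap_iff]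
      constructor
      · exact fun h => RingHom.Flat.comp (RingHom.Flat.of_bijective hbij) h
      · intro h
        have h2 := RingHom.Flat.comp (RingHom.Flat.of_bijective
          (Scheme.ΓSpecIso (CommRingCat.of R)).commRingCatIsoToRingEquiv.bijective) h
        convert h2 using 1
        ext y
        simp [RingHom.algebraMap_toAlgebra, σR]
    rw [hflat]
    constructor
    · intro hF c x hc hx
      haveI := hF
      rw [← hker] at hx ⊢
      rw [← hC] at hx
      exact (smul_eq_zero_iff_right hc).1 hx
    · intro h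
      haveI : Module.IsTorsionFree R C := by
        refine Module.isTorsionFree_iff_smul_eq_zero.2 fun c y hy => ?_
        obtain ⟨x, rfl⟩ := H.subschemeι_app_surjective T y
        by_cases hc : c = 0
        · exact Or.inl hc
        · refine Or.inr ((hker x).2 (h c x hc ((hker _).1 ?_)))
          rw [← hC]; exact hy
      infer_instance
  have hcomap : (I.subschemeι ≫ pr).ker.comap pr = I := by
    refine Scheme.IdealSheafData.ext_of_isAffine ?_
    rw [comap_ideal_top]
    exact hJB
  refine ⟨hcomap, (key _).2 hsat, fun J' hJ' hJ'I => ?_⟩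
  refine Scheme.IdealSheafData.ext_of_isAffine (Ideal.ext fun x => ?_)
  have hJ'B : (J'.ideal T).map (algebraMap A B) = IB := by
    have := congrArg (fun H => H.ideal TK) hJ'I
    exact (comap_ideal_top J' pr).symm.trans this
  refine ⟨fun hx => (hJ x).2 (hJ'B ▸ Ideal.mem_map_of_mem _ hx), fun hx => ?_⟩
  have hx' : algebraMap A B x ∈ (J'.ideal T).map (algebraMap A B) := hJ'B.symm ▸ (hJ x).1 hx
  obtain ⟨_, ⟨c, hc, rfl⟩, hmem⟩ := (IsLocalization.algebraMap_mem_map_algebraMap_iff M B _ _).1 hx'
  exact (key J').1 hJ' c x (nonZeroDivisors.ne_zero hc) hmem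

end Groth.Agent.GenClosure15
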