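import Groth.Agent.Lib.GenClosure15.Scheme
import Groth.Agent.Lib.ValDiv15.Space
import Groth.Agent.Lib.AlgSpace.LocP
import Groth.Prelude.Def_Neron

/-!
# Scheme theoretic closures of closed subspaces of generic fibres
-/

universe u

set_option backward.isDefEq.respectTransparency.types false

open CategoryTheory CategoryTheory.Limits AlgebraicGeometry AlgSp Opposite
open Groth.Agent.AlgSpace Groth.Agent.AlgSpDecent Groth.Agent.SchImage14

namespace Groth.Agent.GenClosure15

variable {S : Scheme.{u}}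

/-- The scheme theoretic closure of a closed subspace of the generic fibre. -/
theorem closure_space
    {R : Type u} [CommRing R] [IsDedekindDomain R] {K : Type u} [Field K] [Algebra R K]
    [IsFractionRing R K] (str : Spec (CommRingCat.of R) ⟶ S) (X : AlgSp.Space S)
    (f : X.obj ⟶ (AlgSp.yon S).obj (Over.mk str))
    (XK : AlgSp.Space S) (gK : XK ⟶ X) {PK₀ : Over S}
    (j : PK₀ ⟶ Over.mk str) (ej : PK₀.left = Spec (CommRingCat.of K))
    (hj : j.left = eqToHom ej ≫ Spec.map (CommRingCat.ofHom (algebraMap R K)))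
    (fK : XK.obj ⟶ (AlgSp.yon S).obj PK₀)
    (hXK : IsPullback gK.hom fK f ((AlgSp.yon S).map j))
    (D : AlgSp.Space S) (i : D ⟶ XK) (hi : AlgSp.RepWith @IsClosedImmersion i.hom)
    (Z : AlgSp.Space S) (i' : Z ⟶ X) (hZ : AlgSp.IsSchImage (i ≫ gK).hom i'.hom) :
    AlgSp.LocP @Flat (i'.hom ≫ f) ∧
    (∃ m : D ⟶ Z, m ≫ i' = i ≫ gK ∧ IsPullback m.hom i.hom i'.hom gK.hom) ∧
    (∀ (Z' : AlgSp.Space S) (i'' : Z' ⟶ X) (m' : D ⟶ Z'),
      AlgSp.RepWith @IsClosedImmersion i''.hom → AlgSp.LocP @Flat (i''.hom ≫ f) →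
      IsPullback m'.hom i.hom i''.hom gK.hom → ∃ e : Z ≅ Z', e.hom ≫ i'' = i') := by
  classical
  have hjq : QuasiCompact j.left := by rw [hj]; infer_instance
  have hgq : RepWith @QuasiCompact gK.hom :=
    repWith_of_isPullback hXK.flip ((repWith_yon_map_iff _ j).2 hjq)
  have hiq : RepWith @QuasiCompact i.hom :=
    AlgSpace.repWith_mono (fun _ _ g hg => (haveI : IsClosedImmersion g := hg; inferInstance : QuasiCompact g)) hi
  have hcq : RepWith @QuasiCompact (i ≫ gK).hom := repWith_comp hiq hgq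
  have hqc : IsQuasiCompactMor (i ≫ gK).hom := (repWith_quasiCompact_iff D.property X.property hcq.1).1 hcq
  obtain ⟨k, hk⟩ := hZ.2.1
  obtain ⟨V, φ, hφe, hφs⟩ := X.property.atlas
  obtain ⟨h, hh⟩ := (yon S).map_surjective (φ ≫ f)
  obtain ⟨PK, pr, qK, sqK⟩ := hgq.1 φ
  have hqKe : RepWith @Etale qK := repWith_of_isPullback sqK.flip hφe
  have hqKs : RepWith @Surjective qK := repWith_of_isPullback sqK.flip hφs
  obtain ⟨pK, hpK⟩ := (yon S).map_surjective (qK ≫ fK)
  have sqP : IsPullback pr pK h j := by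
    refine IsPullback.of_map (F := yon S) ((yon S).map_injective ?_) ?_
    · rw [Functor.map_comp, Functor.map_comp, hh, hpK, ← Category.assoc, ← sqK.w, Category.assoc,
        Category.assoc, hXK.w]
    · rw [hh, hpK]
      exact (sqK.flip.paste_vert hXK)
  have sqPs : IsPullback pr.left (pK.left ≫ eqToHom ej) h.left
      (Spec.map (CommRingCat.ofHom (algebraMap R K))) := by
    refine IsPullback.of_iso (sqP.map (Over.forget S)) (Iso.refl _) (Iso.refl _) (eqToIso ej) (Iso.refl _)
      (by simp) (by simp) (by simp) (by simp [hj])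
  obtain ⟨I, fI, sqI⟩ := AlgSpCartier.exists_ideal_square hi qK
  have sqD : IsPullback fI ((yon S).map (AlgSpCartier.subOver I ≫ pr)) (i ≫ gK).hom φ := by
    rw [Functor.map_comp]
    exact sqI.paste_vert sqK
  let J := subIdeal hZ.1 φ
  have hJ : J = (I.subschemeι ≫ pr.left).ker := by
    rw [show J = _ from subIdeal_eq_ker_snd hcq.1 hqc hZ φ hφe]
    let e := (yon S).preimageIso ((hcq.1.isPullback φ).isoIsPullback _ _ sqD)
    have he : e.hom ≫ AlgSpCartier.subOver I ≫ pr = hcq.1.snd φ := (yon S).map_injective (by simp [e])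
    exact AlgSpCartier.ker_eq_of_iso ((CategoryTheory.Over.forget S).mapIso e) _ _
      (by exact congrArg CommaMorphism.left he)
  -- affine pieces
  have hcov : ∀ v : V.left, ∃ W : V.left.affineOpens, v ∈ W.1 := fun v => by
    obtain ⟨W, hW, hvW, -⟩ := exists_isAffineOpen_mem_and_subset (X := V.left) (x := v) (U := ⊤) trivial
    exact ⟨⟨W, hW⟩, hvW⟩
  choose W hvW using hcov
  have hflatpiece : ∀ (H : V.left.IdealSheafData) (v : V.left), Flat (H.subschemeι ≫ h.left) →
      Flat ((H.comap (W v).1.ι).subschemeι ≫ (W v).1.ι ≫ h.left) := by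
    intro H v hH
    rw [← Scheme.IdealSheafData.comapIso_hom_fst, Category.assoc, pullback.condition_assoc]
    infer_instance
  have hpiece : ∀ v : V.left,
      (J.comap pr.left).comap (pr.left ⁻¹ᵁ (W v).1).ι = I.comap (pr.left ⁻¹ᵁ (W v).1).ι ∧
      Flat ((J.comap (W v).1.ι).subschemeι ≫ (W v).1.ι ≫ h.left) ∧
      ∀ H : V.left.IdealSheafData, Flat ((H.comap (W v).1.ι).subschemeι ≫ (W v).1.ι ≫ h.left) →
        H.comap pr.left = I → H.comap (W v).1.ι = J.comap (W v).1.ι := by
    intro v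
    let U := (W v).1
    let UK := pr.left ⁻¹ᵁ U
    haveI : IsAffine U.toScheme := (W v).2
    have sqO : IsPullback (pr.left ∣_ U) UK.ι U.ι pr.left :=
      (isPullback_morphismRestrict pr.left U)
    have sqU : IsPullback (pr.left ∣_ U) (UK.ι ≫ pK.left ≫ eqToHom ej) (U.ι ≫ h.left)
        (Spec.map (CommRingCat.ofHom (algebraMap R K))) := sqO.paste_vert sqPs
    obtain ⟨h1, h2, h3⟩ := closure_generic (U.ι ≫ h.left) sqU (I.comap UK.ι)
    haveI : QuasiCompact (I.subschemeι ≫ pr.left) := by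
      have : QuasiCompact pr.left := hgq.2 _ _ _ sqK
      infer_instance
    have hkey : J.comap U.ι = ((I.comap UK.ι).subschemeι ≫ (pr.left ∣_ U)).ker := by
      rw [hJ]
      refine (ker_comap_of_flat (IsPullback.of_hasPullback (I.subschemeι ≫ pr.left) U.ι)).trans ?_
      have s1 := (IsPullback.of_hasPullback UK.ι I.subschemeι).flip.paste_vert sqO.flip
      refine (AlgSpCartier.ker_eq_of_iso ((IsPullback.of_hasPullback _ _).isoIsPullback _ _ s1) _ _
        (IsPullback.isoIsPullback_hom_snd _ _ _ _)).trans ?_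
      exact AlgSpCartier.ker_eq_of_iso (I.comapIso UK.ι).symm _ _ (by
        rw [Iso.symm_hom, ← Category.assoc, Scheme.IdealSheafData.comapIso_inv_subschemeι])
    refine ⟨?_, hkey ▸ h2, fun H hH hHI => ?_⟩
    · rw [← Scheme.IdealSheafData.comap_comp, ← sqO.w, Scheme.IdealSheafData.comap_comp, hkey]
      exact h1
    · rw [hkey]
      refine h3 _ hH ?_
      rw [← Scheme.IdealSheafData.comap_comp, sqO.w, Scheme.IdealSheafData.comap_comp, hHI]
  -- generic fibre
  have w₀ : (yon S).map pr ≫ φ = qK ≫ gK.hom := sqK.w.symm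
  have hIeq : subIdeal hi qK = I :=
    (subIdeal_eq_ker hi qK sqI).trans (Scheme.IdealSheafData.ker_subschemeι I)
  have hI_of : ∀ {Z₀ : Sp S} {i₀ : Z₀ ⟶ X.obj} (h₀ : RepWith @IsClosedImmersion i₀) (m₀ : D.obj ⟶ Z₀),
      IsPullback m₀ i.hom i₀ gK.hom → (subIdeal h₀ φ).comap pr.left = I := by
    intro Z₀ i₀ h₀ m₀ sq₀
    rw [← subIdeal_comp, w₀]
    exact (subIdeal_eq_ker h₀ (qK ≫ gK.hom) (sqI.paste_horiz sq₀)).trans
      (Scheme.IdealSheafData.ker_subschemeι I)
  let p₂ := pullback.snd i'.hom gK.hom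
  have sqZ : IsPullback (pullback.fst i'.hom gK.hom) p₂ i'.hom gK.hom := IsPullback.of_hasPullback _ _
  have hp₂ : RepWith @IsClosedImmersion p₂ := repWith_of_isPullback sqZ hZ.1
  have : Mono i.hom := AlgSpDescent.mono_of_repWith_closedImmersion hi
  have : Mono p₂ := AlgSpDescent.mono_of_repWith_closedImmersion hp₂
  have hP : IsAlgSpace (pullback i'.hom gK.hom) := isAlgSpace_of_representable hp₂.1 XK.property
  have hPeq : subIdeal hp₂ qK = J.comap pr.left := by
    rw [← subIdeal_comp, w₀]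
    exact (subIdeal_eq_ker hZ.1 (qK ≫ gK.hom) ((hp₂.1.isPullback qK).paste_horiz sqZ)).symm
  have hle : I ≤ J.comap pr.left := by
    refine ValDiv15.le_of_comap_flat_cover (fun v : V.left => (pr.left ⁻¹ᵁ (W v).1).ι) (fun v => inferInstance)
      (fun x => ⟨pr.left x, ⟨x, hvW (pr.left x)⟩, rfl⟩) fun v => ?_
    rw [(hpiece v).1]
  obtain ⟨d, hd⟩ := exists_hom_of_le hP hp₂ hi hqKe hqKs (by rw [hIeq, hPeq]; exact hle)
  have hk' : k ≫ i'.hom = i.hom ≫ gK.hom := hk
  let e : D.obj ≅ pullback i'.hom gK.hom :=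
    { hom := pullback.lift k i.hom hk'
      inv := d
      hom_inv_id := by rw [← cancel_mono i.hom, Category.assoc, hd, pullback.lift_snd, Category.id_comp]
      inv_hom_id := by rw [← cancel_mono p₂, Category.assoc, pullback.lift_snd, hd, Category.id_comp] }
  have sqm : IsPullback k i.hom i'.hom gK.hom :=
    IsPullback.of_iso sqZ e.symm (Iso.refl _) (Iso.refl _) (Iso.refl _)
      (by
        simp only [Iso.refl_hom, Category.comp_id]
        exact ((Iso.inv_comp_eq e).2 (pullback.lift_fst k i.hom hk').symm).symm)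
      (by
        simp only [Iso.refl_hom, Category.comp_id]
        exact ((Iso.inv_comp_eq e).2 (pullback.lift_snd k i.hom hk').symm).symm) (by simp) (by simp)
  refine ⟨?_, ⟨ObjectProperty.homMk k, ObjectProperty.hom_ext _ hk', sqm⟩, fun Z' i'' m' h'' hflat sq'' => ?_⟩
  · obtain ⟨J', fJ, sqJ⟩ := AlgSpCartier.exists_ideal_square hZ.1 φ
    have hJJ : J = J' :=
      (subIdeal_eq_ker hZ.1 φ sqJ).trans (Scheme.IdealSheafData.ker_subschemeι J')
    refine locP_of_one_chart fJ (𝟙 _) (AlgSpCartier.subOver J' ≫ h) (repWith_of_isPullback sqJ.flip hφe)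
      (repWith_of_isPullback sqJ.flip hφs) (repWith_id _ _)
      (by rw [Category.comp_id, Functor.map_comp, hh, ← Category.assoc, sqJ.w, Category.assoc]) ?_
    show Flat (J'.subschemeι ≫ h.left)
    rw [← hJJ]
    refine IsZariskiLocalAtSource.of_iSup_eq_top (P := @Flat) (fun v => J.subschemeι ⁻¹ᵁ (W v).1)
      (top_le_iff.1 fun x _ => TopologicalSpace.Opens.mem_iSup.2 ⟨J.subschemeι x, hvW _⟩) fun v => ?_
    have sqW := (isPullback_morphismRestrict J.subschemeι (W v).1).flip
    let e' := sqW.isoPullback ≪≫ pullbackSymmetry _ _ ≪≫ (J.comapIso (W v).1.ι).symm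
    have he' : (J.subschemeι ⁻¹ᵁ (W v).1).ι ≫ J.subschemeι ≫ h.left =
        e'.hom ≫ (J.comap (W v).1.ι).subschemeι ≫ (W v).1.ι ≫ h.left := by
      simp only [e', Iso.trans_hom, Iso.symm_hom, Category.assoc,
        Scheme.IdealSheafData.comapIso_inv_subschemeι_assoc, pullbackSymmetry_hom_comp_fst_assoc,
        IsPullback.isoPullback_hom_snd_assoc]
      rw [reassoc_of% sqW.w]
    rw [he']
    haveI := (hpiece v).2.1
    infer_instance
  · obtain ⟨m₁, hm₁⟩ := hZ.2.2 i''.hom Z'.property h'' ⟨m'.hom, sq''.w⟩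
    let J'' := subIdeal h'' φ
    obtain ⟨J', fJ, sqJ⟩ := AlgSpCartier.exists_ideal_square h'' φ
    have hJJ : J'' = J' :=
      (subIdeal_eq_ker h'' φ sqJ).trans (Scheme.IdealSheafData.ker_subschemeι J')
    have hfl : Flat (J''.subschemeι ≫ h.left) := by
      rw [hJJ]
      exact hflat fJ (𝟙 _) (AlgSpCartier.subOver J' ≫ h) (repWith_of_isPullback sqJ.flip hφe)
        (repWith_id _ _)
        (by rw [Category.comp_id, Functor.map_comp, hh, ← Category.assoc, sqJ.w, Category.assoc])
    have hle' : J ≤ J'' := ValDiv15.le_of_comap_flat_cover (fun v : V.left => (W v).1.ι)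
      (fun v => inferInstance) (fun x => ⟨x, ⟨x, hvW x⟩, rfl⟩) fun v =>
        ((hpiece v).2.2 J'' (hflatpiece J'' v hfl) (hI_of h'' m'.hom sq'')).ge
    obtain ⟨m₂, hm₂⟩ := exists_hom_of_le Z'.property h'' hZ.1 hφe hφs hle'
    have : Mono i'.hom := AlgSpDescent.mono_of_repWith_closedImmersion hZ.1
    have : Mono i''.hom := AlgSpDescent.mono_of_repWith_closedImmersion h''
    refine ⟨{ hom := ObjectProperty.homMk m₁, inv := ObjectProperty.homMk m₂
              hom_inv_id := ObjectProperty.hom_ext _ ?_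
              inv_hom_id := ObjectProperty.hom_ext _ ?_ }, ObjectProperty.hom_ext _ hm₁⟩
    · show m₁ ≫ m₂ = 𝟙 _
      rw [← cancel_mono i'.hom, Category.assoc, hm₂, hm₁, Category.id_comp]
    · show m₂ ≫ m₁ = 𝟙 _
      rw [← cancel_mono i''.hom, Category.assoc, hm₁, hm₂, Category.id_comp]

end Groth.Agent.GenClosure15
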